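import Mathlib.RingTheory.Flat.EquationalCriterion
import Mathlib.RingTheory.Flat.Stability
import Mathlib.RingTheory.TensorProduct.Free
import Mathlib.RingTheory.TensorProduct.Quotient
import Mathlib.LinearAlgebra.TensorProduct.RightExactness

/-!
# Modules which are free modulo a nilpotent ideal
-/

universe u

open TensorProduct Function

namespace GrothLib.NilFree

section crit

variable {S : Type u} [CommRing S] {N : Type u} [AddCommGroup N] [Module S N]

/-- In a flat module a spanning family which is free modulo a nilpotent ideal is free. -/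
theorem linearIndependent_of_flat [Module.Flat S N] (K : Ideal S) (hK : IsNilpotent K) {ι : Type u}
    (v : ι → N) (hspan : Submodule.span S (Set.range v) = ⊤) [DecidableEq ι]
    (ψ : ι → N →ₗ[S] S ⧸ K) (hψ : ∀ i l, ψ i (v l) = if l = i then 1 else 0) :
    LinearIndependent S v := by
  classical
  rw [linearIndependent_iff']
  intro s g hg i hi
  rw [← Finset.sum_coe_sort] at hg
  obtain ⟨l, c, z, hcz, hgc⟩ := Module.Flat.isTrivialRelation_of_sum_smul_eq_zero hg
  choose d hd using fun j => (Finsupp.mem_span_range_iff_exists_finsupp (R := S) (v := v)).mp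
    (hspan.ge (Submodule.mem_top : z j ∈ ⊤))
  have hmat : ∀ i i' : s, (∑ j, c i j * d j i') - (if (i : ι) = i' then 1 else 0) ∈ K := fun i i' => by
    rw [← Ideal.Quotient.eq, map_sum]
    have h1 := congrArg (ψ i') (hcz i)
    rw [hψ, map_sum] at h1
    refine Eq.trans ?_ (h1.symm.trans ?_)
    · refine Finset.sum_congr rfl fun j _ => ?_
      rw [map_smul, ← hd j, Finsupp.sum, map_sum]
      simp only [map_smul, hψ, smul_ite, smul_zero]
      rw [Finset.sum_ite_eq']
      by_cases h : (i' : ι) ∈ (d j).support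
      · rw [if_pos h, smul_smul, Algebra.smul_def, mul_one]
        rfl
      · rw [if_neg h, smul_zero, Finsupp.notMem_support_iff.mp h, mul_zero, map_zero]
    · split_ifs <;> simp
  let G : Ideal S := Ideal.span (Set.range fun i : s => g i)
  have hG : G ≤ K • G := by
    rw [Ideal.span_le]
    rintro _ ⟨i', rfl⟩
    have h0 : ∑ i : s, g i * ∑ j, c i j * d j i' = 0 := by
      simp only [Finset.mul_sum, ← mul_assoc]
      rw [Finset.sum_comm]
      refine Finset.sum_eq_zero fun j _ => ?_
      rw [← Finset.sum_mul, hgc j, zero_mul]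
    have h1 : g i' = - ∑ i : s, g i * ((∑ j, c i j * d j i') - if (i : ι) = i' then 1 else 0) := by
      simp only [mul_sub, Finset.sum_sub_distrib, h0, zero_sub, neg_neg, mul_ite, mul_one,
        mul_zero]
      rw [Finset.sum_eq_single i' (fun a _ ha => if_neg fun h => ha (Subtype.ext h))
        (fun h => absurd (Finset.mem_univ _) h), if_pos rfl]
    show g i' ∈ K • G
    rw [h1]
    refine neg_mem (Submodule.sum_mem _ fun i _ => ?_)
    rw [mul_comm]
    exact Submodule.smul_mem_smul (hmat i i') (Ideal.subset_span ⟨i, rfl⟩)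
  have hpow : ∀ n : ℕ, G ≤ K ^ n • G := fun n => by
    induction n with
    | zero => simp
    | succ n ih =>
      refine ih.trans ((Submodule.smul_mono le_rfl hG).trans ?_)
      rw [← Submodule.mul_smul, pow_succ]
  obtain ⟨n, hn⟩ := hK
  have := hpow n (Ideal.subset_span ⟨⟨i, hi⟩, rfl⟩)
  rw [hn, Ideal.zero_eq_bot, Submodule.bot_smul] at this
  exact this

end crit

variable {A : Type u} [CommRing A] {M : Type u} [AddCommGroup M] [Module A M]

theorem mk_tmul_eq_zero_iff (I : Ideal A) (x : M) :
    (1 : A ⧸ I) ⊗ₜ[A] x = 0 ↔ x ∈ I • (⊤ : Submodule A M) := by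
  have h := TensorProduct.quotTensorEquivQuotSMul_mk_tmul I (1 : A) x
  rw [one_smul, map_one] at h
  rw [← (TensorProduct.quotTensorEquivQuotSMul M I).map_eq_zero_iff, h,
    Submodule.Quotient.mk_eq_zero]

/-- Lifting a basis of `(A ⧸ J) ⊗ M`, for `J` nilpotent. -/
theorem exists_basisLift (J : Ideal A) (hJ : IsNilpotent J)
    [Module.Free (A ⧸ J) ((A ⧸ J) ⊗[A] M)] :
    ∃ (ι : Type u) (v : ι → M) (b : Module.Basis ι (A ⧸ J) ((A ⧸ J) ⊗[A] M)),
      (∀ i, (1 : A ⧸ J) ⊗ₜ[A] v i = b i) ∧ Submodule.span A (Set.range v) = ⊤ := by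
  classical
  let b := Module.Free.chooseBasis (A ⧸ J) ((A ⧸ J) ⊗[A] M)
  have hsurj : Surjective (algebraMap A (A ⧸ J)) := Ideal.Quotient.mk_surjective
  choose v hv using fun i => TensorProduct.mk_surjective A M (A ⧸ J) hsurj (b i)
  refine ⟨_, v, b, hv, eq_top_iff.mpr fun x _ => ?_⟩
  obtain ⟨n, hn⟩ := hJ
  have h1 : (⊤ : Submodule A M) ≤ Submodule.span A (Set.range v) ⊔ J • ⊤ := by
    intro y _
    have hy : (1 : A ⧸ J) ⊗ₜ[A] y ∈ Submodule.span A (Set.range b) := by
      rw [← Submodule.restrictScalars_span A (A ⧸ J) hsurj, b.span_eq]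
      trivial
    rw [← (funext hv : TensorProduct.mk A (A ⧸ J) M 1 ∘ v = b), Set.range_comp,
      Submodule.span_image] at hy
    obtain ⟨z, hz, hzy⟩ := hy
    refine Submodule.mem_sup.mpr ⟨z, hz, y - z, ?_, add_sub_cancel _ _⟩
    rw [← mk_tmul_eq_zero_iff, TensorProduct.tmul_sub, sub_eq_zero]
    exact hzy.symm
  have hstep : ∀ j : ℕ, x ∈ Submodule.span A (Set.range v) ⊔ J ^ j • (⊤ : Submodule A M) := by
    intro j
    induction j with
    | zero =>
      rw [pow_zero, Ideal.one_eq_top, Submodule.top_smul]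
      exact Submodule.mem_sup_right trivial
    | succ j ih =>
      refine SetLike.le_def.mp (sup_le le_sup_left ?_) ih
      refine (Submodule.smul_mono le_rfl h1).trans ?_
      rw [Submodule.smul_sup, pow_succ, Submodule.mul_smul]
      exact sup_le_sup Submodule.smul_le_right le_rfl
  simpa [hn] using hstep n

/-- The ideal generated by the coefficients of the relations between the members of a family. -/
noncomputable def relIdeal (A : Type u) [CommRing A] [Module A M] {ι : Type u} (v : ι → M) :
    Ideal A :=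
  Ideal.span {a | ∃ c ∈ LinearMap.ker (Finsupp.linearCombination A v), ∃ i, c i = a}

theorem linearIndependent_of_relIdeal_eq_bot {ι : Type u} (v : ι → M) (h : relIdeal A v = ⊥) :
    LinearIndependent A v := by
  rw [linearIndependent_iff]
  intro c hc
  ext i
  rw [Finsupp.zero_apply, ← Ideal.mem_bot, ← h]
  exact Ideal.subset_span ⟨c, hc, i, rfl⟩

/-- The least ideal modulo which a module, free modulo a nilpotent ideal, becomes free. -/
theorem exists_ideal (J : Ideal A) (hJ : IsNilpotent J) [Module.Free (A ⧸ J) ((A ⧸ J) ⊗[A] M)] :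
    ∃ R₀ : Ideal A, R₀ ≤ J ∧ (R₀ = ⊥ → Module.Free A M) ∧
      ∀ (A' : Type u) [CommRing A'] [Algebra A A'],
        (R₀.map (algebraMap A A') = ⊥ → Module.Free A' (A' ⊗[A] M)) ∧
        (Module.Flat A' (A' ⊗[A] M) → R₀.map (algebraMap A A') = ⊥) := by
  classical
  obtain ⟨ι, v, b, hb, hspan⟩ := exists_basisLift (M := M) J hJ
  have hfree : relIdeal A v = ⊥ → Module.Free A M := fun h =>
    Module.Free.of_basis (Module.Basis.mk (linearIndependent_of_relIdeal_eq_bot v h) hspan.ge)
  refine ⟨relIdeal A v, Ideal.span_le.2 ?_, hfree, fun A' _ _ => ?_⟩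
  · rintro _ ⟨c, hc, i, rfl⟩
    have h1 := congrArg (b.coord i ∘ₗ (LinearMap.id : _ →ₗ[A ⧸ J] _))
      (congrArg (TensorProduct.mk A (A ⧸ J) M 1) (LinearMap.mem_ker.1 hc))
    rw [map_zero, map_zero, Finsupp.linearCombination_apply, Finsupp.sum, map_sum, map_sum] at h1
    simp only [map_smul, TensorProduct.mk_apply, hb, LinearMap.comp_apply, LinearMap.id_apply,
      LinearMap.map_smul_of_tower, Module.Basis.coord_apply, Module.Basis.repr_self,
      Finsupp.single_apply] at h1
    simp only [smul_ite, smul_zero, Finset.sum_ite_eq'] at h1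
    by_cases h : i ∈ c.support
    · rw [if_pos h, Algebra.smul_def, mul_one] at h1
      exact Ideal.Quotient.eq_zero_iff_mem.1 h1
    · rw [Finsupp.notMem_support_iff.mp h]
      exact J.zero_mem
  set v' : ι → A' ⊗[A] M := fun i => 1 ⊗ₜ v i
  have hspan' : Submodule.span A' (Set.range v') = ⊤ := by
    rw [eq_top_iff]
    intro y _
    induction y using TensorProduct.induction_on with
    | zero => exact zero_mem _
    | add a b ha hb => exact add_mem (ha trivial) (hb trivial)
    | tmul s m =>
    clear * - hspan v' m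
    rw [show s ⊗ₜ[A] m = s • ((1 : A') ⊗ₜ[A] m) by rw [TensorProduct.smul_tmul', smul_eq_mul, mul_one]]
    refine Submodule.smul_mem _ _ ?_
    have hm : m ∈ Submodule.span A (Set.range v) := hspan ▸ trivial
    induction hm using Submodule.span_induction with
    | mem x hx => obtain ⟨i, rfl⟩ := hx; exact Submodule.subset_span ⟨i, rfl⟩
    | zero => rw [tmul_zero]; exact zero_mem _
    | add x y _ _ hx hy => rw [tmul_add]; exact add_mem hx hy
    | smul r x _ hx =>
      rw [tmul_smul, ← IsScalarTower.algebraMap_smul A' r ((1 : A') ⊗ₜ[A] x)]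
      exact Submodule.smul_mem _ _ hx
  refine ⟨fun h => ?_, fun hflat => ?_⟩
  · -- the map `A' ⊗ F → A' ⊗ M` is bijective
    let p : (ι →₀ A) →ₗ[A] M := Finsupp.linearCombination A v
    have hp : Surjective p := by
      rw [← LinearMap.range_eq_top, Finsupp.range_linearCombination, hspan]
    have hexact : Exact (LinearMap.ker p).subtype p := LinearMap.exact_subtype_ker_map p
    have hex := lTensor_exact (R := A) (M := ↥(LinearMap.ker p)) (N := ι →₀ A) (P := M) A' hexact hp
    have hzero : (LinearMap.ker p).subtype.lTensor A' = 0 := by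
      refine TensorProduct.ext' fun a c => ?_
      rw [LinearMap.lTensor_tmul, LinearMap.zero_apply, Submodule.subtype_apply]
      rw [← (c : ι →₀ A).sum_single, Finsupp.sum, TensorProduct.tmul_sum]
      refine Finset.sum_eq_zero fun i _ => ?_
      have h0 : algebraMap A A' (c.1 i) = 0 := by
        rw [← Ideal.mem_bot, ← h]
        exact Ideal.mem_map_of_mem _ (Ideal.subset_span ⟨c.1, c.2, i, rfl⟩)
      rw [← mul_one (c.1 i), ← smul_eq_mul, ← Finsupp.smul_single, ← TensorProduct.smul_tmul,
        Algebra.smul_def, h0, zero_mul, TensorProduct.zero_tmul]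
    have hinj : Injective (p.lTensor A') := by
      rw [injective_iff_map_eq_zero]
      intro y hy
      obtain ⟨z, rfl⟩ := (hex y).1 hy
      rw [hzero, LinearMap.zero_apply]
    let e : (A' ⊗[A] (ι →₀ A)) ≃ₗ[A'] A' ⊗[A] M :=
      LinearEquiv.ofBijective (p.baseChange A') ⟨hinj, LinearMap.lTensor_surjective A' hp⟩
    exact Module.Free.of_equiv e
  · -- a flat base change forces the relations to vanish
    let K : Ideal A' := J.map (algebraMap A A')
    have hK : IsNilpotent K := by
      obtain ⟨n, hn⟩ := hJ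
      refine ⟨n, ?_⟩
      rw [← Ideal.map_pow, hn]
      exact Ideal.map_bot
    let σ : A ⧸ J →ₗ[A] A' ⧸ K := (Ideal.quotientMapₐ K (Algebra.ofId A A') Ideal.le_comap_map).toLinearMap
    let ψ : ι → A' ⊗[A] M →ₗ[A'] A' ⧸ K := fun i =>
      (σ ∘ₗ (b.coord i).restrictScalars A ∘ₗ TensorProduct.mk A (A ⧸ J) M 1).liftBaseChange A'
    have hψ : ∀ i l, ψ i (v' l) = if l = i then 1 else 0 := fun i l => by
      simp only [ψ, v', LinearMap.liftBaseChange_tmul, one_smul, LinearMap.comp_apply,
        TensorProduct.mk_apply, hb, LinearMap.restrictScalars_apply, Module.Basis.coord_apply,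
        Module.Basis.repr_self, Finsupp.single_apply]
      split_ifs
      · exact map_one (Ideal.quotientMapₐ K (Algebra.ofId A A') Ideal.le_comap_map)
      · exact map_zero σ
    have hli := linearIndependent_of_flat K hK v' hspan' ψ hψ
    rw [eq_bot_iff, Ideal.map_le_iff_le_comap, relIdeal, Ideal.span_le]
    rintro _ ⟨c, hc, i, rfl⟩
    rw [SetLike.mem_coe, Ideal.mem_comap, Ideal.mem_bot]
    by_cases h : i ∈ c.support
    · refine linearIndependent_iff'.1 hli c.support (fun i => algebraMap A A' (c i)) ?_ i h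
      simp only [v', IsScalarTower.algebraMap_smul, ← tmul_smul, ← tmul_sum]
      have h0 : ∑ i ∈ c.support, c i • v i = 0 :=
        (Finsupp.linearCombination_apply A c).symm.trans (LinearMap.mem_ker.1 hc)
      rw [h0, tmul_zero]
    · rw [Finsupp.notMem_support_iff.mp h, map_zero]

/-- A module is free when it is free modulo a nilpotent ideal and becomes flat in a separating
family of algebras. -/
theorem free_of_family (J : Ideal A) (hJ : IsNilpotent J) [Module.Free (A ⧸ J) ((A ⧸ J) ⊗[A] M)]
    {ι : Type u} (B : ι → Type u) [∀ i, CommRing (B i)] [∀ i, Algebra A (B i)]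
    (hB : ∀ a : A, (∀ i, algebraMap A (B i) a = 0) → a = 0)
    (hflat : ∀ i, Module.Flat (B i) (B i ⊗[A] M)) : Module.Free A M := by
  obtain ⟨R₀, -, hfree, hR₀⟩ := exists_ideal (M := M) J hJ
  refine hfree (eq_bot_iff.2 fun a ha => Ideal.mem_bot.2 (hB a fun i => ?_))
  rw [← Ideal.mem_bot, ← (hR₀ (B i)).2 (hflat i)]
  exact Ideal.mem_map_of_mem _ ha

end GrothLib.NilFree
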