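import Mathlib.RingTheory.Flat.Stability
import Mathlib.RingTheory.Flat.Tensor
import Mathlib.RingTheory.Flat.Localization
import Mathlib.RingTheory.Localization.BaseChange
import Mathlib.RingTheory.TensorProduct.Quotient
import Mathlib.LinearAlgebra.TensorProduct.RightExactness
import Mathlib.LinearAlgebra.TensorProduct.Pi
import Mathlib.RingTheory.Ideal.AssociatedPrime.Finiteness
import Mathlib.RingTheory.Spectrum.Prime.Basic
import Mathlib.RingTheory.Localization.AtPrime.Basic
import Mathlib.Algebra.Module.Torsion.Basic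

/-!
# Flatness from flatness modulo a nilpotent ideal and at the associated primes
-/

universe u

open TensorProduct Function

namespace GrothLib.NilFree

variable {A : Type u} [CommRing A] {M : Type u} [AddCommGroup M] [Module A M]

/-- Tensoring with a module flat modulo `J` preserves injections of modules killed by `J`. -/
theorem lTensor_injective_of_killed (J : Ideal A) [Module.Flat (A ⧸ J) ((A ⧸ J) ⊗[A] M)]
    {P Q : Type u} [AddCommGroup P] [Module A P] [AddCommGroup Q] [Module A Q]
    (hP : ∀ a ∈ J, ∀ y : P, a • y = 0) (hQ : ∀ a ∈ J, ∀ y : Q, a • y = 0)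
    (φ : P →ₗ[A] Q) (hφ : Injective φ) : Injective (φ.lTensor M) := by
  have hP' : Module.IsTorsionBySet A P (J : Set A) := fun y a => hP a.1 a.2 y
  have hQ' : Module.IsTorsionBySet A Q (J : Set A) := fun y a => hQ a.1 a.2 y
  letI := hP'.module
  letI := hQ'.module
  haveI : IsScalarTower A (A ⧸ J) P := hP'.isScalarTower
  haveI : IsScalarTower A (A ⧸ J) Q := hQ'.isScalarTower
  let φ₀ : P →ₗ[A ⧸ J] Q := φ.extendScalarsOfSurjective Ideal.Quotient.mk_surjective
  let eP := (TensorProduct.comm A M P).trans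
    ((AlgebraTensorModule.cancelBaseChange A (A ⧸ J) (A ⧸ J) P M).symm.restrictScalars A)
  let eQ := (TensorProduct.comm A M Q).trans
    ((AlgebraTensorModule.cancelBaseChange A (A ⧸ J) (A ⧸ J) Q M).symm.restrictScalars A)
  have key : ∀ z, eQ (φ.lTensor M z) = φ₀.rTensor ((A ⧸ J) ⊗[A] M) (eP z) := fun z => by
    induction z using TensorProduct.induction_on with
    | zero => simp
    | add a b ha hb => simp only [map_add, ha, hb]
    | tmul m y => simp [eP, eQ, φ₀]
  have hinj : Injective (φ₀.rTensor ((A ⧸ J) ⊗[A] M)) :=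
    Module.Flat.rTensor_preserves_injective_linearMap φ₀ hφ
  intro x y hxy
  exact eP.injective (hinj (by rw [← key, ← key, hxy]))

/-- The elements which lie in `J ^ k` locally at each of the given primes. -/
def satPow (J : Ideal A) (ps : Set (PrimeSpectrum A)) (k : ℕ) : Ideal A where
  carrier := {a | ∀ p ∈ ps, ∃ s ∈ p.asIdeal.primeCompl, s * a ∈ J ^ k}
  add_mem' {a b} ha hb p hp := by
    obtain ⟨s, hs, hsa⟩ := ha p hp
    obtain ⟨t, ht, htb⟩ := hb p hp
    refine ⟨s * t, mul_mem hs ht, ?_⟩
    rw [show s * t * (a + b) = t * (s * a) + s * (t * b) by ring]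
    exact add_mem (Ideal.mul_mem_left _ _ hsa) (Ideal.mul_mem_left _ _ htb)
  zero_mem' p _ := ⟨1, one_mem _, by simp⟩
  smul_mem' c a ha p hp := by
    obtain ⟨s, hs, hsa⟩ := ha p hp
    exact ⟨s, hs, by rw [smul_eq_mul, mul_left_comm]; exact Ideal.mul_mem_left _ _ hsa⟩

theorem mul_mem_satPow_succ {J : Ideal A} {ps : Set (PrimeSpectrum A)} {k : ℕ} {a b : A}
    (ha : a ∈ J) (hb : b ∈ satPow J ps k) : a * b ∈ satPow J ps (k + 1) := fun p hp => by
  obtain ⟨s, hs, hsb⟩ := hb p hp
  exact ⟨s, hs, by rw [pow_succ', mul_left_comm]; exact Ideal.mul_mem_mul ha hsb⟩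

theorem satPow_succ_le (J : Ideal A) (ps : Set (PrimeSpectrum A)) (k : ℕ) :
    satPow J ps (k + 1) ≤ satPow J ps k := fun a ha p hp => by
  obtain ⟨s, hs, hsa⟩ := ha p hp
  exact ⟨s, hs, Ideal.pow_le_pow_right k.le_succ hsa⟩

theorem exists_smul_eq_zero_of_flat (p : PrimeSpectrum A)
    [Module.Flat (Localization.AtPrime p.asIdeal) (LocalizedModule p.asIdeal.primeCompl M)]
    {L : Ideal A} {x : M ⊗[A] L} (hx : (Submodule.subtype L).lTensor M x = 0) :
    ∃ s ∈ p.asIdeal.primeCompl, s • x = 0 := by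
  haveI : Module.Flat A (LocalizedModule p.asIdeal.primeCompl M) :=
    Module.Flat.trans A (Localization.AtPrime p.asIdeal) _
  let g : M →ₗ[A] LocalizedModule p.asIdeal.primeCompl M :=
    LocalizedModule.mkLinearMap p.asIdeal.primeCompl M
  haveI : IsLocalizedModule p.asIdeal.primeCompl (g.rTensor L) := by
    have h : IsLocalizedModule p.asIdeal.primeCompl
      (AlgebraTensorModule.rTensor A (↥L) g) := inferInstance
    exact h
  have h0 : g.rTensor L x = 0 := by
    apply Module.Flat.lTensor_preserves_injective_linearMap (Submodule.subtype L) L.injective_subtype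
      (M := LocalizedModule p.asIdeal.primeCompl M)
    rw [map_zero, ← LinearMap.comp_apply, LinearMap.lTensor_comp_rTensor,
      ← LinearMap.rTensor_comp_lTensor, LinearMap.comp_apply, hx, map_zero]
  obtain ⟨s, hs⟩ := (IsLocalizedModule.eq_zero_iff p.asIdeal.primeCompl (g.rTensor L)).1 h0
  exact ⟨s.1, s.2, hs⟩

theorem eq_zero_of_forall_torsion (J : Ideal A) [Module.Flat (A ⧸ J) ((A ⧸ J) ⊗[A] M)]
    (ps : Set (PrimeSpectrum A)) [Finite ps] (hflat : ∀ p ∈ ps,
      Module.Flat (Localization.AtPrime p.asIdeal) (LocalizedModule p.asIdeal.primeCompl M))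
    {n : ℕ} (hn : satPow J ps n = ⊥) (L : Ideal A) (d k : ℕ) (hk : k + d = n)
    (y : M ⊗[A] ↥(L ⊓ satPow J ps k)) (hy : ∀ p ∈ ps, ∃ s ∈ p.asIdeal.primeCompl, s • y = 0) :
    y = 0 := by
  classical
  haveI := Fintype.ofFinite ps
  induction d generalizing k with
  | zero =>
    obtain rfl : k = n := by omega
    have h0 : Subsingleton ↥(L ⊓ satPow J ps k) := by
      rw [hn, inf_bot_eq]
      infer_instance
    exact Subsingleton.elim _ _
  | succ d ih =>
    let Lk : Ideal A := L ⊓ satPow J ps k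
    let L' : Ideal A := L ⊓ satPow J ps (k + 1)
    have hle : L' ≤ Lk := inf_le_inf_left L (satPow_succ_le J ps k)
    let ι' : ↥L' →ₗ[A] ↥Lk := Submodule.inclusion hle
    let q : ↥Lk →ₗ[A] ↥Lk ⧸ LinearMap.range ι' := (LinearMap.range ι').mkQ
    have hkill : ∀ a ∈ J, ∀ z : ↥Lk ⧸ LinearMap.range ι', a • z = 0 := by
      intro a ha z
      obtain ⟨z, rfl⟩ := Submodule.Quotient.mk_surjective _ z
      rw [← Submodule.Quotient.mk_smul, Submodule.Quotient.mk_eq_zero]
      exact ⟨⟨a * z.1, L.mul_mem_left _ z.2.1, mul_mem_satPow_succ ha z.2.2⟩, rfl⟩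
    let Q' := (p : ps) → LocalizedModule p.1.asIdeal.primeCompl (↥Lk ⧸ LinearMap.range ι')
    let φ : (↥Lk ⧸ LinearMap.range ι') →ₗ[A] Q' :=
      LinearMap.pi fun p => LocalizedModule.mkLinearMap _ _
    have hφ : Injective φ := by
      rw [injective_iff_map_eq_zero]
      intro z hz
      obtain ⟨z, rfl⟩ := Submodule.Quotient.mk_surjective _ z
      rw [Submodule.Quotient.mk_eq_zero]
      refine ⟨⟨z.1, z.2.1, fun p hp => ?_⟩, rfl⟩
      obtain ⟨s, hs⟩ := (IsLocalizedModule.eq_zero_iff p.asIdeal.primeCompl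
        (LocalizedModule.mkLinearMap p.asIdeal.primeCompl (↥Lk ⧸ LinearMap.range ι'))).1
        (congrFun hz ⟨p, hp⟩)
      rw [Submonoid.smul_def, ← Submodule.Quotient.mk_smul, Submodule.Quotient.mk_eq_zero] at hs
      obtain ⟨w, hw⟩ := hs
      obtain ⟨t, ht, htw⟩ := w.2.2 p hp
      refine ⟨t * s.1, mul_mem ht s.2, ?_⟩
      have hw' : w.1 = s.1 * z.1 := congrArg Subtype.val hw
      rwa [mul_assoc, ← hw']
    have hkill' : ∀ a ∈ J, ∀ z : Q', a • z = 0 := fun a ha z => funext fun p => by
      change a • z p = 0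
      induction z p using LocalizedModule.induction_on with
      | h m s => rw [LocalizedModule.smul'_mk, hkill a ha, LocalizedModule.zero_mk]
    have hzero : q.lTensor M y = 0 := by
      apply lTensor_injective_of_killed (M := M) (P := ↥Lk ⧸ LinearMap.range ι') (Q := Q') J hkill hkill' φ hφ
      rw [map_zero]
      apply (TensorProduct.piRight A A M _).injective
      rw [map_zero]
      refine funext fun p => ?_
      obtain ⟨s, hs, hsy⟩ := hy p.1 p.2
      have hsz : s • (TensorProduct.piRight A A M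
          (fun p : ps => LocalizedModule p.1.asIdeal.primeCompl (↥Lk ⧸ LinearMap.range ι'))
          (φ.lTensor M (q.lTensor M y))) p = 0 := by
        rw [← Pi.smul_apply, ← map_smul, ← map_smul, ← map_smul, hsy]
        simp
      generalize (TensorProduct.piRight A A M
          (fun p : ps => LocalizedModule p.1.asIdeal.primeCompl (↥Lk ⧸ LinearMap.range ι'))
          (φ.lTensor M (q.lTensor M y))) p = c at hsz ⊢
      obtain ⟨u, hu⟩ := IsLocalizedModule.map_units
        (LocalizedModule.mkLinearMap p.1.asIdeal.primeCompl (↥Lk ⧸ LinearMap.range ι')) ⟨s, hs⟩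
      have h1 : ∀ c : M ⊗[A] LocalizedModule p.1.asIdeal.primeCompl (↥Lk ⧸ LinearMap.range ι'),
          (↑u⁻¹ : Module.End A _).lTensor M (s • c) = c := fun c => by
        induction c using TensorProduct.induction_on with
        | zero => simp
        | add a b ha hb => rw [smul_add, map_add, ha, hb]
        | tmul m e =>
          rw [← TensorProduct.tmul_smul, LinearMap.lTensor_tmul,
            show s • e = (↑u : Module.End A _) e by rw [hu]; rfl, ← Module.End.mul_apply,
            Units.inv_mul, Module.End.one_apply]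
      rw [← h1 c, hsz, map_zero]
      rfl
    have hexact : Exact ι' q := LinearMap.exact_map_mkQ_range ι'
    obtain ⟨y', rfl⟩ := (lTensor_exact (R := A) (M := ↥L') (N := ↥Lk) (P := ↥Lk ⧸ LinearMap.range ι')
      M hexact (LinearMap.range ι').mkQ_surjective y).1 hzero
    suffices h' : y' = 0 by rw [h', map_zero]
    refine ih (k + 1) (by omega) y' fun p hp => ?_
    obtain ⟨s, hs, hsy⟩ := hy p hp
    rw [← map_smul] at hsy
    haveI := hflat p hp
    obtain ⟨t, ht, hts⟩ := exists_smul_eq_zero_of_flat (M := M) p (L := L') (x := s • y') (by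
      rw [← Submodule.subtype_comp_inclusion L' Lk hle, LinearMap.lTensor_comp, LinearMap.comp_apply,
        hsy, map_zero])
    exact ⟨t * s, mul_mem ht hs, by rw [mul_smul, hts]⟩

theorem flat_of_flat_at_associatedPrimes [IsNoetherianRing A] (J : Ideal A) (hJ : IsNilpotent J)
    [Module.Flat (A ⧸ J) ((A ⧸ J) ⊗[A] M)]
    (h : ∀ (p : Ideal A) [p.IsPrime], p ∈ associatedPrimes A A →
      Module.Flat (Localization.AtPrime p) (LocalizedModule p.primeCompl M)) :
    Module.Flat A M := by
  let ps : Set (PrimeSpectrum A) := {p | p.asIdeal ∈ associatedPrimes A A}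
  haveI : Finite ps := by
    refine Set.Finite.to_subtype ((associatedPrimes.finite A A).preimage ?_)
    exact fun p _ q _ h => PrimeSpectrum.ext h
  obtain ⟨n, hn⟩ := hJ
  have hsat : satPow J ps n = ⊥ := by
    rw [eq_bot_iff]
    intro a ha
    rw [Ideal.mem_bot]
    by_contra hne
    obtain ⟨P, hP, hle⟩ := exists_le_isAssociatedPrime_of_isNoetherianRing A a hne
    haveI := hP.isPrime
    obtain ⟨s, hs, hsa⟩ := ha ⟨P, hP.isPrime⟩ hP
    refine hs (hle (Submodule.mem_colon_singleton.2 ?_))
    rw [hn] at hsa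
    exact hsa
  rw [Module.Flat.iff_lTensor_injective]
  intro L _
  rw [injective_iff_map_eq_zero]
  intro x hx
  have h0 : L ⊓ satPow J ps 0 = L := inf_eq_left.2 fun a _ p _ => ⟨1, one_mem _, by simp⟩
  have key : ∀ y : M ⊗[A] ↥(L ⊓ satPow J ps 0),
      (∀ p ∈ ps, ∃ s ∈ p.asIdeal.primeCompl, s • y = 0) → y = 0 :=
    eq_zero_of_forall_torsion J ps (fun p hp => h p.asIdeal hp) hsat L n 0 (by simp)
  rw [h0] at key
  refine key x fun p hp => ?_
  haveI := h p.asIdeal hp
  exact exists_smul_eq_zero_of_flat p hx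

end GrothLib.NilFree
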