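import Groth.Agent.Lib.NilFree.Basic
import Mathlib.RingTheory.Flat.Localization
import Mathlib.RingTheory.Localization.AtPrime.Basic
import Mathlib.RingTheory.Localization.BaseChange
import Mathlib.RingTheory.Ideal.Over
import Mathlib.RingTheory.Jacobson.Ideal
import Mathlib.Tactic.LinearCombination
import Mathlib.LinearAlgebra.Basis.VectorSpace
import Mathlib.RingTheory.Ideal.Quotient.Basic

/-!
# Flatness over semi-local rings with nilpotent radical
-/

universe u

open TensorProduct Function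

namespace GrothLib.NilFree

variable {A : Type u} [CommRing A]

/-- In a semi-local ring with nilpotent radical, for each maximal ideal `m` there is `e ∉ m`
annihilating a power of `m`. -/
theorem exists_annihilator_pow [Finite (MaximalSpectrum A)] {N : ℕ} (hN : Ring.jacobson A ^ N = ⊥)
    (m : Ideal A) [hm : m.IsMaximal] : ∃ e : A, e ∉ m ∧ ∀ x ∈ m ^ N, e * x = 0 := by
  classical
  haveI := Fintype.ofFinite (MaximalSpectrum A)
  let m₀ : MaximalSpectrum A := ⟨m, hm⟩
  have h1 : ∀ P : MaximalSpectrum A, ∃ c, (P ≠ m₀ → c ∈ P.asIdeal) ∧ c ∉ m := fun P => by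
    by_cases hP : P = m₀
    · exact ⟨1, fun h => absurd hP h, m.ne_top_iff_one.1 hm.ne_top⟩
    · have hne : ¬ P.asIdeal ≤ m := fun h =>
        hP (MaximalSpectrum.ext (P.isMaximal.eq_of_le hm.ne_top h))
      obtain ⟨c, hc, hc'⟩ := SetLike.not_le_iff_exists.1 hne
      exact ⟨c, fun _ => hc, hc'⟩
  choose c hc hc' using h1
  refine ⟨(∏ P ∈ Finset.univ.erase m₀, c P) ^ N, fun h => ?_, fun x hx => ?_⟩
  · obtain ⟨P, -, hP⟩ := hm.isPrime.prod_mem_iff.1 (hm.isPrime.mem_of_pow_mem N h)
    exact hc' P hP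
  · rw [← Ideal.mem_bot, ← hN]
    have hle : Ideal.span {∏ P ∈ Finset.univ.erase m₀, c P} * m ≤ Ring.jacobson A := by
      rw [← Ideal.jacobson_bot, Ideal.jacobson]
      refine le_sInf ?_
      rintro J ⟨-, hJ⟩
      by_cases hJm : J = m
      · exact hJm ▸ Ideal.mul_le_right
      · refine Ideal.mul_le_left.trans ?_
        rw [Ideal.span_singleton_le_iff_mem]
        refine Ideal.prod_mem J (i := (⟨J, hJ⟩ : MaximalSpectrum A)) ?_ (hc ⟨J, hJ⟩ ?_)
        · exact Finset.mem_erase.2 ⟨fun h => hJm (congrArg MaximalSpectrum.asIdeal h), Finset.mem_univ _⟩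
        · exact fun h => hJm (congrArg MaximalSpectrum.asIdeal h)
    refine Ideal.pow_right_mono hle N ?_
    rw [mul_pow, Ideal.span_singleton_pow]
    exact Ideal.mul_mem_mul (Ideal.mem_span_singleton_self _) hx

variable {M : Type u} [AddCommGroup M] [Module A M]

theorem flat_baseChange_quotient {B : Type u} [CommRing B] [Algebra A B] (p : Ideal A)
    [Module.Flat B (B ⊗[A] M)] :
    Module.Flat (B ⧸ p.map (algebraMap A B))
      ((B ⧸ p.map (algebraMap A B)) ⊗[A ⧸ p] ((A ⧸ p) ⊗[A] M)) := by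
  set P := p.map (algebraMap A B)
  haveI : IsScalarTower A (A ⧸ p) (B ⧸ P) := IsScalarTower.of_algebraMap_eq fun _ => rfl
  exact Module.Flat.of_linearEquiv
    ((AlgebraTensorModule.cancelBaseChange A (A ⧸ p) (B ⧸ P) (B ⧸ P) M).trans
      (AlgebraTensorModule.cancelBaseChange A B (B ⧸ P) (B ⧸ P) M).symm)

theorem flat_of_semilocal [Finite (MaximalSpectrum A)] (hnil : IsNilpotent (Ring.jacobson A))
    {ι : Type u} (B : ι → Type u) [∀ i, CommRing (B i)] [∀ i, Algebra A (B i)]
    (hB : ∀ a : A, (∀ i, algebraMap A (B i) a = 0) → a = 0)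
    (hflat : ∀ i, Module.Flat (B i) (B i ⊗[A] M)) : Module.Flat A M := by
  obtain ⟨N₀, hN₀⟩ := hnil
  set N := N₀ + 1
  have hN : Ring.jacobson A ^ N = ⊥ := by rw [pow_succ, hN₀, zero_mul, Ideal.zero_eq_bot]
  refine Module.flat_of_localized_maximal M fun m hm => ?_
  obtain ⟨e, he, he0⟩ := exists_annihilator_pow hN m
  set p := m ^ N
  let K : Ideal (A ⧸ p) := m.map (Ideal.Quotient.mk p)
  have hK : IsNilpotent K := ⟨N, by rw [← Ideal.map_pow]; exact Ideal.map_quotient_self p⟩
  haveI : K.IsMaximal := Ideal.IsMaximal.map_of_surjective_of_ker_le Ideal.Quotient.mk_surjective (by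
    rw [Ideal.mk_ker]; exact Ideal.pow_le_self (by omega))
  letI : Field ((A ⧸ p) ⧸ K) := Ideal.Quotient.field K
  haveI : Module.Free ((A ⧸ p) ⧸ K) (((A ⧸ p) ⧸ K) ⊗[A ⧸ p] ((A ⧸ p) ⊗[A] M)) := inferInstance
  have hfree : Module.Free (A ⧸ p) ((A ⧸ p) ⊗[A] M) := by
    refine free_of_family K hK (fun i => B i ⧸ p.map (algebraMap A (B i))) (fun a ha => ?_)
      (fun i => @flat_baseChange_quotient A _ M _ _ (B i) _ _ p (hflat i))
    obtain ⟨a, rfl⟩ := Ideal.Quotient.mk_surjective a
    have hea : e * a = 0 := hB _ fun i => by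
      have h1 : algebraMap A (B i) a ∈ p.map (algebraMap A (B i)) :=
        Ideal.Quotient.eq_zero_iff_mem.1 (ha i)
      have h2 : p.map (algebraMap A (B i)) ≤ LinearMap.ker (LinearMap.mulLeft (B i) (algebraMap A (B i) e)) := by
        rw [Ideal.map_le_iff_le_comap]
        intro x hx
        change algebraMap A (B i) e * algebraMap A (B i) x = 0
        rw [← map_mul, he0 x hx, map_zero]
      rw [map_mul]
      exact h2 h1
    refine Ideal.Quotient.eq_zero_iff_mem.2 ?_
    have hprim : Ideal.span {e} ⊔ p = ⊤ := Ideal.sup_pow_eq_top ((Ideal.IsMaximal.out (I := m)).2 _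
      (lt_of_le_of_ne le_sup_right fun h => he (h.ge (Ideal.mem_sup_left (Ideal.mem_span_singleton_self e)))))
    obtain ⟨y, hy, z, hz, hyz⟩ := Submodule.mem_sup.1 (hprim.ge (Submodule.mem_top : (1 : A) ∈ ⊤))
    obtain ⟨t, rfl⟩ := Ideal.mem_span_singleton.1 hy
    rw [show a = z * a by linear_combination -a * hyz + t * hea]
    exact p.mul_mem_right _ hz
  let Am := Localization.AtPrime m
  letI : Algebra (A ⧸ p) Am := (Ideal.Quotient.lift p (algebraMap A Am) fun x hx => by
    rw [IsLocalization.map_eq_zero_iff m.primeCompl]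
    exact ⟨⟨e, he⟩, he0 x hx⟩).toAlgebra
  haveI : IsScalarTower A (A ⧸ p) Am := IsScalarTower.of_algebraMap_eq fun _ => rfl
  haveI : Module.Flat Am (Am ⊗[A ⧸ p] ((A ⧸ p) ⊗[A] M)) := by
    haveI : Module.Flat (A ⧸ p) ((A ⧸ p) ⊗[A] M) := @Module.Flat.of_free _ _ _ _ _ hfree
    infer_instance
  haveI : Module.Flat Am (Am ⊗[A] M) := Module.Flat.of_linearEquiv
    (AlgebraTensorModule.cancelBaseChange A (A ⧸ p) Am Am M).symm
  haveI : Module.Flat Am (LocalizedModule m.primeCompl M) :=
    Module.Flat.of_linearEquiv (LocalizedModule.equivTensorProduct m.primeCompl M)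
  exact Module.Flat.trans A Am _

end GrothLib.NilFree
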